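import Mathlib
import Cfsg.Agent.FE.Fus
import Cfsg.Agent.NE.Tools
import Cfsg.Agent.Hay.IdGen
import Cfsg.Agent.GT.TransferFrobenius

/-! # The centralizer of the central involution normalizes the root subgroup -/

set_option autoImplicit false
set_option linter.unusedSectionVars false

namespace Cfsg.Agent.FE

open Cfsg Cfsg.Agent.GT Cfsg.Agent.Loc.Mss Cfsg.Agent.StdB Cfsg.Agent.Chev Subgroup
open scoped commutatorElement

section Grp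

variable {G : Type*} [Group G] [Finite G]

/-- Four-group generation modulo a normal Sylow subgroup. -/
theorem four_mod {M N W : Subgroup G} (hS : Syl 2 N M) (hn : M ≤ 𝐍[N]) (hW : N ≤ W) {a b : G}
    (a2 : a * a = 1) (b2 : b * b = 1) (hab : a * b = b * a) (ha : a ∈ 𝐍[M]) (hb : b ∈ 𝐍[M])
    (ha' : a ∈ 𝐍[N]) (hb' : b ∈ 𝐍[N])
    (h : ∀ y ∈ M, (⁅y, a⁆ ∈ N ∨ ⁅y, b⁆ ∈ N ∨ ⁅y, a * b⁆ ∈ N) → y ∈ W) : M ≤ W := by
  have : Fact (Nat.Prime 2) := ⟨Nat.prime_two⟩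
  have : (N.subgroupOf 𝐍[N]).Normal := ⟨fun x hx g => conj_mem_of_norm (A := N) g.2 hx⟩
  let π := QuotientGroup.mk' (N.subgroupOf 𝐍[N])
  have k1 : ∀ x : 𝐍[N], π x = 1 ↔ (x : G) ∈ N := fun x => QuotientGroup.eq_one_iff x
  have k2 : ∀ x y : 𝐍[N], π x * π y = π y * π x ↔ ⁅(x : G), (y : G)⁆ ∈ N := fun x y => by
    rw [← commutatorElement_eq_one_iff_mul_comm, ← map_commutatorElement, k1]; rfl
  have k3 : ∀ c : 𝐍[N], (c : G) ∈ 𝐍[M] → π c ∈ 𝐍[(M.subgroupOf 𝐍[N]).map π] := fun c hc =>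
    map_norm_le π (X := zpowers c) (zpowers_le_of_mem (by rw [norm_subgroupOf hn]; exact hc))
      (mem_map_of_mem _ (mem_zpowers c))
  have ho := ((hS.subgroupOf hn).map π).eq_bot_iff.1 ((Subgroup.map_eq_bot_iff _).2 fun x hx => (k1 x).2 hx)
  have key := Hay.id_le_of_four (W := ((W ⊓ M).subgroupOf 𝐍[N]).map π) (Nat.coprime_two_right.1 ho)
    (a := π ⟨a, ha'⟩) (b := π ⟨b, hb'⟩)
    (by rw [← map_mul, k1]; exact (show a * a ∈ N from a2 ▸ one_mem N))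
    (by rw [← map_mul, k1]; exact (show b * b ∈ N from b2 ▸ one_mem N))
    (by rw [← map_mul, ← map_mul]; exact congrArg π (Subtype.ext hab)) (k3 _ ha) (k3 _ hb) (by
      rintro _ ⟨x, hx, rfl⟩ hq
      refine mem_map_of_mem _ ⟨h x hx (hq.imp (k2 _ _).1 (Or.imp (k2 _ _).1 fun e => ?_)), hx⟩
      rw [← map_mul] at e
      exact (k2 _ _).1 e)
  intro y hy
  obtain ⟨x, hx, e⟩ := key (mem_map_of_mem π (x := ⟨y, hn hy⟩) hy)
  have h3 : x⁻¹ * ⟨y, hn hy⟩ ∈ N.subgroupOf 𝐍[N] := QuotientGroup.eq.1 e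
  exact (W.mul_mem_cancel_left (W.inv_mem hx.1)).1 (hW h3)

theorem burn {P H : Subgroup G} (h : Syl 2 P H) (hc : H ⊓ 𝐍[P] ≤ 𝐂[P]) :
    Syl 2 ⊥ (pResidualOf 2 H) := by
  have : Fact (Nat.Prime 2) := ⟨Nat.prime_two⟩
  obtain ⟨Q, e, -⟩ := h.exists_sylow
  have h1 := Tr.hasNormalPComplement_of_normalizer_le_centralizer Q (by
    rw [e, norm_subgroupOf h.le, cent_subgroupOf h.le]
    exact fun x hx => hc ⟨x.2, hx⟩)
  rw [Tr.hasNormalPComplement_iff_not_dvd_card_pResidual] at h1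
  refine ⟨bot_le, IsPGroup.of_bot, ?_⟩
  rwa [relIndex_bot_left, pResidualOf, card_map_of_injective (subtype_injective H)]

end Grp

variable {ι Nd M : Type} [AddCommGroup M] [Fintype Nd] [Finite ι] {R : StRoot ι Nd M} {T : Top R}
  {K G : Type*} [Field K] [Finite K] [CharP K 2] [Group G] [Finite G] (f : Fe T K G)

namespace Fe

theorem Cz_ZU : f.Z ≤ f.U := rsub_le fun a => StRoot.x_mem_UU T.pos0 a

theorem Cz_UZ : f.U ≤ 𝐂[f.Z] := fun _ hu => mem_cent.2 fun _ hy =>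
  (T.Z_comm f.st.toIsAB hu hy).eq.symm

theorem Cz_UC : f.U ≤ f.X ⊓ C1 f.z := fun _ hu =>
  ⟨f.syl.le hu, mem_C1.2 (T.Z_comm f.st.toIsAB hu (x_mem_rsub _ _ _)).eq⟩

theorem Cz_SL : f.S ≤ f.Γ ⊓ C1 f.z ⊓ 𝐍[f.Z] :=
  sup_le (fun _ hu => ⟨⟨f.X_le_Γ (f.syl.le hu), (f.Cz_UC hu).2⟩, cent_le_norm _ (f.Cz_UZ hu)⟩)
    (zpowers_le_of_mem ⟨⟨f.t_mem_Γ, mem_C1.2 f.t_z.eq⟩, f.t_norm_Z⟩)

theorem Cz_Q {r : ι} (h : 1 ≤ R.A T.r0 r) (c : K) : f.x r c ∈ T.Q f.x :=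
  x_mem_XS f.x (S := {r | 1 ≤ R.A T.r0 r}) h c

theorem Cz_comm {A N : Subgroup G} (hA : A ≤ f.X ⊓ C1 f.z) (hS : Syl 2 N A) (hn : A ≤ 𝐍[N])
    (hN : N ≤ f.Z) (h1 : f.S ≤ 𝐍[A]) (h2 : f.S ≤ 𝐍[N]) {r : ι} (hr : T.π r = r)
    (hQ : 1 ≤ R.A T.r0 r) : f.x r 1 ∈ cmod A N := by
  have : Fact (Nat.Prime 2) := ⟨Nat.prime_two⟩
  have hq : ∀ c, f.x r c ∈ T.Q f.x := fun c => f.Cz_Q hQ c
  have hu : ∀ c, f.x r c ∈ f.U := fun c => T.Q_le (hq c)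
  have hs := f.U_le_S (hu 1)
  have hNH : N ≤ f.H := hN.trans (f.Cz_ZU.trans (f.U_le_S.trans f.S_le_H))
  have key : ∀ y ∈ A, y ∈ f.H → ⁅y, f.x r 1⁆ ∈ N := fun y hy hH => by
    have h3 : y ∈ 𝐍[f.Z] := f.normZ_H hH (x_mem_rsub _ _ 1) f.z_ne (by
      rw [mem_C1.1 (hA hy).2, mul_inv_cancel_right]; exact x_mem_rsub _ _ 1)
    refine hS.le_of_norm' (P := f.U ⊓ A) (f.syl.pg.to_le inf_le_left) inf_le_right
      (inf_le_right.trans hn) (mem_inf.2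
        ⟨mul_mem (f.conj_Q_le hH h3 (conj_mem_cj (hq 1))) (inv_mem (hu 1)), ?_⟩)
    have := mul_mem hy (conj_mem_of_norm (h1 hs) (inv_mem hy))
    simpa only [commutatorElement_def, mul_assoc] using this
  have hc : f.x r 1 * f.t = f.t * f.x r 1 := by
    have := f.act r 1
    rw [hr, map_one, mul_inv_eq_iff_eq_mul] at this
    exact this.symm
  have := four_mod (W := cmod (zpowers (f.x r 1)) N) hS hn ?_ (T.x_sq f.st.toIsAB r 1) f.t2 hc (h1 hs)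
    (h1 f.t_mem_S) (h2 hs) (h2 f.t_mem_S) fun y hy h => ?_
  · refine mem_cmod.2 ⟨h2 hs, fun v hv => ?_⟩
    have h3 := inv_mem ((mem_cmod.1 (this hv)).2 _ (mem_zpowers _))
    rwa [commutatorElement_inv] at h3
  · exact le_cmod.2 ⟨le_normalizer, comm_le_right (zpowers_le_of_mem (h2 hs))⟩
  · have h3 : ⁅y, f.x r 1⁆ ∈ N := by
      rcases h with h | h | h
      · exact h
      · refine key y hy (f.uf y ?_)
        simpa [commutatorElement_def] using mul_mem (hNH h) f.t_mem_H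
      · have hw := f.S_le_H (f.U_le_S (hu f.ω))
        refine key y hy ((mul_mem_cancel_right hw).1 (f.uf _ ?_))
        have h4 := mul_mem (hNH h) (f.S_le_H (mul_mem hs f.t_mem_S))
        rw [commutatorElement_def, inv_mul_cancel_right, ← f.t_conj hr] at h4
        simpa only [mul_inv_rev, mul_assoc] using h4
    refine mem_cmod.2 ⟨hn hy, fun v hv => ?_⟩
    rcases (Hay.mem_zpowers_two (T.x_sq f.st.toIsAB r 1)).1 hv with rfl | rfl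
    · simp
    · simpa only [commutatorElement_inv] using inv_mem h3

theorem Cz_cent {A N : Subgroup G} (hA : A ≤ f.X ⊓ C1 f.z) (hS : Syl 2 N A) (hn : A ≤ 𝐍[N])
    (hN : N ≤ f.Z) (h1 : f.Γ ⊓ C1 f.z ⊓ 𝐍[f.Z] ≤ 𝐍[A]) (h2 : f.Γ ⊓ C1 f.z ⊓ 𝐍[f.Z] ≤ 𝐍[N]) :
    A ≤ 𝐂[f.Z] := by
  have hc := fun r => f.Cz_comm hA hS hn hN (f.Cz_SL.trans h1) (f.Cz_SL.trans h2) (r := r)
  have a1 : R.A T.r0 (R.sr T.a0) = 1 := by rw [T.sl.symm, T.A_a0]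
  have a2 : R.A (R.sr T.a0) (R.refl (R.sr T.a0) T.r0) = -1 := by rw [R.A_refl_right, T.A_a0]
  have a3 : R.A T.r0 (R.refl (R.sr T.a0) T.r0) = 1 := by
    rw [R.A_def, R.wt_refl', T.A_a0, one_smul, map_sub, ← R.A_def, ← R.A_def, a1, R.A_self]; rfl
  have hα := hc _ T.π_a0 a1.ge
  have hβ := hc (R.refl (R.sr T.a0) T.r0) (by rw [T.aut.refl, T.π_a0, T.π_r0]) a3.ge
  intro m hm
  refine mem_cent.2 fun y hy => ?_
  obtain ⟨c, rfl⟩ := (f.st.toIsAB.add _).mem_rsub.1 hy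
  by_cases h0 : c = 0
  · rw [h0, (f.st.toIsAB.add _).zero, one_mul, mul_one]
  obtain ⟨h, hh, h3, h4⟩ := T.tor2 f.st (d := R.refl (R.sr T.a0) T.r0)
    (fun e => by rw [e, R.A_self] at a3; omega) (fun e => by rw [e, R.A_ng_right, R.A_self] at a3; omega) h0
  have hL : h ∈ f.Γ ⊓ C1 f.z ⊓ 𝐍[f.Z] :=
    ⟨⟨f.X_le_Γ (f.G0_le_X (StRoot.NN_le_XS_univ (StRoot.HH_le_NN hh))), mem_C1.2 (h3 1).eq⟩,
      cent_le_norm _ (cent_comm (rsub_le fun a => mem_cent.2 (by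
        rintro _ ⟨k, rfl⟩; exact ((h3 a).zpow_left k).eq)) (mem_zpowers h))⟩
  have hγ := conj_mem_of_norm (norm_cmod h1 h2 hL) hβ
  rw [h4] at hγ
  have e := T.comm_eq f.st.toIsAB a2 1 c
  rw [R.refl_refl, one_mul] at e
  have k : ∀ u ∈ cmod A N, ∃ ζ ∈ 𝐂[f.U], m * u * m⁻¹ = ζ * u := fun u hu =>
    ⟨_, cent_comm f.Cz_UZ (hN ((mem_cmod.1 hu).2 m hm)), by rw [commutatorElement_def]; group⟩
  obtain ⟨ζ, z1, e1⟩ := k _ hα
  obtain ⟨ξ, z2, e2⟩ := k _ hγ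
  have u1 : f.x (R.sr T.a0) 1 ∈ f.U := T.Q_le (f.Cz_Q a1.ge _)
  have u2 : f.x (R.refl (R.sr T.a0) T.r0) c ∈ f.U := T.Q_le (f.Cz_Q a3.ge _)
  have u3 : ξ ∈ f.U := by
    have := f.Cz_ZU (hN ((mem_cmod.1 hγ).2 m hm))
    rwa [commutatorElement_def, e2, mul_inv_cancel_right] at this
  rw [← e, eq_comm, ← mul_inv_eq_iff_eq_mul, conjugate_commutatorElement, e1, e2]
  generalize f.x (R.sr T.a0) 1 = a at u1
  generalize f.x (R.refl (R.sr T.a0) T.r0) c = b at u2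
  have c1 := mem_cent.1 z1 _ (mul_mem (mul_mem u1 (mul_mem u3 u2)) (inv_mem u1))
  have c2 := mem_cent.1 z2 _ u1
  have c3 := mem_cent.1 z2 ⁅a, b⁆ (mul_mem (mul_mem (mul_mem u1 u2) (inv_mem u1)) (inv_mem u2))
  calc _ = ζ * (a * (ξ * b) * a⁻¹) * ζ⁻¹ * (ξ * b)⁻¹ := by rw [commutatorElement_def]; group
    _ = (a * ξ) * b * a⁻¹ * b⁻¹ * ξ⁻¹ := by rw [← c1]; group
    _ = ξ * ⁅a, b⁆ * ξ⁻¹ := by rw [c2, commutatorElement_def]; group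
    _ = _ := by rw [← c3, mul_inv_cancel_right]

end Fe

theorem Fe.Cz : f.Γ ⊓ C1 f.z ≤ 𝐍[f.Z] := by
  have : Fact (Nat.Prime 2) := ⟨Nat.prime_two⟩
  have := f.normal
  have hZC := f.Cz_ZU.trans f.Cz_UC
  have hZZ := f.Cz_ZU.trans f.Cz_UZ
  have hU : Syl 2 f.U (f.X ⊓ C1 f.z) := f.syl.mono f.Cz_UC inf_le_left
  have hle : ncl (f.X ⊓ C1 f.z) f.Z ≤ f.X ⊓ C1 f.z := ncl_le_self hZC
  have hn : f.Γ ⊓ C1 f.z ≤ 𝐍[ncl (f.X ⊓ C1 f.z) f.Z] := fun g hg => by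
    rcases f.idx hg.1 with h | h
    · exact le_norm_ncl _ _ ⟨h, hg.2⟩
    · have ht : f.t ∈ C1 f.z := mem_C1.2 f.t_z.eq
      have h1 : f.t ∈ 𝐍[ncl (f.X ⊓ C1 f.z) f.Z] := norm_ncl (X := zpowers f.t)
        (norm_inf (norm_normal _ _) (norm_of_le (zpowers_le_of_mem ht)))
        (zpowers_le_of_mem f.t_norm_Z) (mem_zpowers _)
      exact (mul_mem_cancel_right h1).1 (le_norm_ncl _ _ ⟨h, mul_mem hg.2 ht⟩)
  have hUn := f.Cz_UC.trans (le_norm_ncl (f.X ⊓ C1 f.z) f.Z)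
  have h1 : f.U ⊓ ncl (f.X ⊓ C1 f.z) f.Z = f.Z := by
    refine le_antisymm (by_contra fun h => ?_) (le_inf f.Cz_ZU (le_ncl _ _))
    obtain ⟨u, hu, h2, -, h3⟩ := NE.exists_central_mod f.syl.pg (f.Cz_UZ.trans (cent_le_norm _)) inf_le_left
      (norm_inf le_normalizer hUn) h
    exact h2 (mem_of_sc hU f.scl hZZ hu.1 hu.2 (T.cen2 f.model hu.1 h3))
  have hS : Syl 2 f.Z (ncl (f.X ⊓ C1 f.z) f.Z) := by
    have := hU.inf hle hUn
    rwa [h1] at this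
  have h2 := f.Cz_cent (A := ncl (f.X ⊓ C1 f.z) f.Z ⊓ 𝐍[f.Z]) (inf_le_left.trans hle)
    (hS.mono (le_inf hS.le le_normalizer) inf_le_left) inf_le_right le_rfl
    (norm_inf (inf_le_left.trans hn) (norm_norm inf_le_right)) inf_le_right
  have h3 := f.Cz_cent ((res_le _).trans hle) (burn hS h2) (norm_normal _ _) bot_le
    (norm_res (inf_le_left.trans hn)) (norm_normal _ _)
  have h4 := (hS.le_of_res_le h3 hZZ).trans (cent_le_norm _)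
  intro g hg
  have h5 := cj_le_of_norm hS.le (hn hg)
  exact mem_norm_of_cj_le (hS.le_of_norm' (pg_cj hS.pg g) h5 (h5.trans h4))

end Cfsg.Agent.FE
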