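import Mathlib
import Cfsg.Agent.FE.TI
import Cfsg.Agent.FE.Reg

set_option autoImplicit false
set_option linter.unusedSectionVars false

namespace Cfsg.Agent.FE

open Cfsg Cfsg.Agent.GT Cfsg.Agent.Loc.Mss Cfsg.Agent.StdB Cfsg.Agent.Chev Subgroup
open scoped commutatorElement

variable {ι Nd M : Type} [AddCommGroup M] [Fintype Nd] [Finite ι] {R : StRoot ι Nd M} {T : Top R}
  {K G : Type*} [Field K] [Finite K] [CharP K 2] [Group G] [Finite G] (f : Fe T K G)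

namespace Fe

theorem nu_nn_X (i : Nd) : R.nn f.x (R.sr i) 1 ∈ f.X :=
  f.G0_le_X (StRoot.nn_mem_XS (Set.mem_univ _) (Set.mem_univ _) _)

theorem nu_nn_norm (i : Nd) : R.nn f.x (R.sr i) 1 ∈ 𝐍[XS f.x (R.posBut i)] :=
  mem_norm_of_cj_le (cj_le_iff.2 fun _ hu =>
    (f.st.mono_nn (R.sr i) one_ne_zero).conj_mem_XS (fun _ hr => StRoot.refl_mem_posBut hr) hu)

theorem nu_nn_not (i : Nd) : R.nn f.x (R.sr i) 1 ∉ 𝐍[f.U] := fun h => by
  have h1 := conj_mem_of_norm h (StRoot.x_mem_UU (x := f.x) (R.pos_sr i) 1)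
  rw [f.st.nn_conj_self _ one_ne_zero] at h1
  simpa using f.model.eq_zero_of_mem_UU (R.not_pos_ng_sr i) h1

theorem nu_nn_Pi (i : Nd) : R.nn f.x (R.sr i) 1 ∈ Pi' R f.x i :=
  mul_mem (mul_mem (mem_sup_left (StRoot.x_mem_UU (R.pos_sr i) _)) (mem_sup_right (x_mem_rsub _ _ _)))
    (mem_sup_left (StRoot.x_mem_UU (R.pos_sr i) _))

theorem nu_uf (i : Nd) {y n : G} (hy : y ∈ f.U) (h1 : y ∉ XS f.x (R.posBut i))
    (hn : n ∈ f.X ⊓ 𝐍[XS f.x (R.posBut i)]) (h : n * y * n⁻¹ ∈ 𝐍[f.U]) : n ∈ 𝐍[f.U] := by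
  have : Fact (Nat.Prime 2) := ⟨Nat.prime_two⟩
  have h2 : n * y * n⁻¹ ∈ f.U :=
    f.syl.le_of_norm' ((pg_cj f.syl.pg n).to_le (zpowers_le.2 (conj_mem_cj hy)))
      (zpowers_le.2 (f.normal.conj_mem _ (f.ti_U_le hy) _)) (zpowers_le.2 h) (mem_zpowers _)
  obtain ⟨u, hu, c, rfl⟩ := f.st.toIsAB.exists_posBut_mul i hy
  have hc : c ≠ 0 := fun e => h1 (by rwa [e, f.ti_zero, mul_one])
  have h3 : n * f.x (R.sr i) c * n⁻¹ ∈ f.U := by
    have := mul_mem (inv_mem (StRoot.XS_posBut_le_UU i (conj_mem_of_norm hn.2 hu))) h2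
    convert this using 1
    group
  have h4 := ((f.rg_rsub (R.sr i)).cj (f.X_le_Γ hn.1)).le_U (conj_mem_cj (x_mem_rsub _ _ c))
    (fun e => hc (f.model.x_eq_one (by simpa using e))) h3
  refine mem_norm_of_cj_le (cj_le_iff.2 fun v hv => ?_)
  obtain ⟨v', hv', b, rfl⟩ := f.st.toIsAB.exists_posBut_mul i hv
  rw [← conj_mul]
  exact mul_mem (StRoot.XS_posBut_le_UU i (conj_mem_of_norm hn.2 hv'))
    (h4 (conj_mem_cj (x_mem_rsub _ _ _)))

/-- The conjugates of `U` under the normalizer of the radical of a minimal parabolic subgroup. -/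
theorem nu_key (i : Nd) {m : G} (hm : m ∈ f.X ⊓ 𝐍[XS f.x (R.posBut i)]) :
    cj(m, f.U) ≤ Pi' R f.x i := by
  have : Fact (Nat.Prime 2) := ⟨Nat.prime_two⟩
  by_cases hB : m ∈ 𝐍[f.U]
  · rw [cj_of_norm hB]; exact le_sup_left
  have hU := f.st.toIsAB.UU_le_normalizer_posBut i
  have hω := f.ω_ne
  obtain ⟨s, hs, b, hb, rfl⟩ := reg (N := f.X ⊓ 𝐍[XS f.x (R.posBut i)]) (B := 𝐍[f.U]) (S := f.U)
    (I := XS f.x (R.posBut i)) (f.syl.mono (le_inf f.ti_U_le hU) inf_le_left) le_normalizer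
    (StRoot.XS_posBut_le_UU i) inf_le_right (fun y hy => by
      obtain ⟨u, hu, c, rfl⟩ := f.st.toIsAB.exists_posBut_mul i hy
      have := mul_mem hu (conj_mem_of_norm (hU (StRoot.x_mem_UU (R.pos_sr i) c)) hu)
      convert this using 1
      rw [inv_eq_of_mul_eq_one_right (T.x_sq f.st.toIsAB _ c)]
      group) (fun y hy h1 n hn h => f.nu_uf i hy h1 hn h)
    (StRoot.x_mem_UU (R.pos_sr i) 1) (StRoot.x_mem_UU (R.pos_sr i) f.ω)
    (fun h => one_ne_zero (f.model.eq_zero_of_mem_posBut h))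
    (fun h => hω.1 (f.model.eq_zero_of_mem_posBut h))
    (fun h => by
      rw [← f.add] at h
      have h2 := f.model.eq_zero_of_mem_posBut h
      exact hω.2 (by rw [← CharTwo.add_eq_zero, add_comm]; exact h2))
    ⟨f.nu_nn_X i, f.nu_nn_norm i⟩ hm (f.nu_nn_not i) hB
  rw [← cj_cj, cj_of_norm hb]
  exact cj_le_of_mem le_sup_left (mul_mem (mem_sup_left hs) (f.nu_nn_Pi i))

theorem nu_Ik_le (i : Nd) : Ik R f.x 1 ≤ XS f.x (R.posBut i) := by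
  rw [T.posBut_eq f.st.toIsAB]; exact le_sup_left

theorem nu_rsub_le {i j : Nd} (h : j ≠ i) : rsub f.x (R.sr j) ≤ XS f.x (R.posBut i) :=
  rsub_le fun c => x_mem_XS _ (show R.sr j ∈ R.posBut i from ⟨R.pos_sr j, fun e => h (R.sr_inj e)⟩) c

theorem nu_not_le (i : Nd) : ¬ rsub f.x (R.sr i) ≤ XS f.x (R.posBut i) := fun h =>
  one_ne_zero (f.model.eq_zero_of_mem_posBut (h (x_mem_rsub _ _ 1)))

theorem nu_norm_Ik {g : G} (hg : g ∈ 𝐍[f.U]) : cj(g, Ik R f.x 1) = Ik R f.x 1 := by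
  rw [← T.der f.st.toIsAB, cj_comm, cj_of_norm hg]

theorem nu_perm {g : G} (hg : g ∈ f.Γ ⊓ 𝐍[f.U]) (i : Nd) :
    ∃ j, cj(g, rsub f.x (R.sr i) ⊔ Ik R f.x 1) = rsub f.x (R.sr j) ⊔ Ik R f.x 1 := by
  obtain ⟨v, hv, d, hd, e⟩ := ((f.rg_rsub (R.sr i)).cj hg.1).exists_U (conj_mem_cj (x_mem_rsub _ _ 1))
    (fun e => one_ne_zero (f.model.x_eq_one (by simpa using e)))
    (conj_mem_of_norm hg.2 (StRoot.x_mem_UU (R.pos_sr i) 1))
  have h1 : cj(g, rsub f.x (R.sr i) ⊔ Ik R f.x 1) = rsub f.x d ⊔ Ik R f.x 1 := by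
    have h2 : f.U ≤ 𝐍[rsub f.x d ⊔ Ik R f.x 1] := by
      refine le_normalizer_iff_commutator_le_left.2 (le_trans ?_ le_sup_right)
      rw [← T.der f.st.toIsAB]
      exact commutator_mono (sup_le (rsub_le fun c => StRoot.x_mem_UU hd c)
        (comm_le_left le_normalizer)) le_rfl
    rw [cj_sup, e, f.nu_norm_Ik hg.2, ← cj_of_norm (h2 hv), cj_sup, f.nu_norm_Ik (le_normalizer hv)]
  by_cases h3 : hgt R d = 1
  · obtain ⟨j, rfl⟩ := T.eq_sr_of_ht h3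
    exact ⟨j, h1⟩
  · exfalso
    have h4 : 1 < hgt R d := lt_of_le_of_ne hd (Ne.symm h3)
    have h5 : rsub f.x d ≤ Ik R f.x 1 := rsub_le fun c =>
      x_mem_XS (S := {r | 1 < hgt R r}) _ h4 c
    rw [sup_eq_right.2 h5] at h1
    conv_rhs at h1 => rw [← f.nu_norm_Ik hg.2]
    exact f.nu_not_le i (le_sup_left.trans ((cj_eq_cj.1 h1).le.trans (f.nu_Ik_le i)))

theorem nu_posBut {g : G} (hg : g ∈ f.Γ ⊓ 𝐍[f.U]) (i : Nd) :
    ∃ j, cj(g, XS f.x (R.posBut i)) = XS f.x (R.posBut j) := by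
  choose s hs using f.nu_perm hg
  have hinj : Function.Injective s := fun a b e => by
    by_contra hne
    have h1 := hs a
    rw [e, ← hs b] at h1
    exact f.nu_not_le a (le_sup_left.trans ((cj_eq_cj.1 h1).le.trans
      (sup_le (f.nu_rsub_le (Ne.symm hne)) (f.nu_Ik_le a))))
  refine ⟨s i, le_antisymm ?_ ?_⟩
  · rw [T.posBut_eq f.st.toIsAB i, cj_sup, f.nu_norm_Ik hg.2]
    refine sup_le (f.nu_Ik_le _) ?_
    rw [cj_le_iff_le_inv]
    refine XS_le ?_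
    rintro _ ⟨j, hj, rfl⟩ c
    refine cj_le_iff_le_inv.1 ?_ (mem_sup_left (x_mem_rsub _ _ c) : _ ∈ _ ⊔ Ik R f.x 1)
    rw [hs j]
    exact sup_le (f.nu_rsub_le fun e => hj (hinj e)) (f.nu_Ik_le _)
  · rw [T.posBut_eq f.st.toIsAB (s i)]
    refine sup_le ?_ (XS_le ?_)
    · rw [← f.nu_norm_Ik hg.2]; exact cj_mono _ (f.nu_Ik_le i)
    · rintro _ ⟨k, hk, rfl⟩ c
      obtain ⟨j, rfl⟩ := Finite.surjective_of_injective hinj k
      have h1 : f.x (R.sr (s j)) c ∈ cj(g, rsub f.x (R.sr j) ⊔ Ik R f.x 1) := by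
        rw [hs j]; exact mem_sup_left (x_mem_rsub _ _ c)
      exact cj_mono _ (sup_le (f.nu_rsub_le fun e => hk (by rw [e])) (f.nu_Ik_le i)) h1

end Fe

theorem Fe.NU : f.Γ ⊓ 𝐍[f.U] ≤ f.H := by
  intro g hg
  refine mem_norm_of_cj_le (cj_le_iff_le_inv.2 ?_)
  conv_lhs => rw [f.st.XS_univ_eq]
  refine XS_le ?_
  rintro _ ⟨i, rfl | rfl⟩ c
  · exact cj_le_iff_le_inv.1 ((cj_of_norm hg.2).le.trans f.U_le_G0) (StRoot.x_mem_UU (R.pos_sr i) c)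
  · obtain ⟨j, hj⟩ := f.nu_posBut hg i
    have h1 := f.nu_key j (m := g * R.nn f.x (R.sr i) 1 * g⁻¹)
      ⟨f.normal.conj_mem _ (f.nu_nn_X i) _, by
        rw [← hj, ← cj_norm]; exact conj_mem_cj (f.nu_nn_norm i)⟩
    have h2 : Pi' R f.x j ≤ f.G0 := sup_le f.U_le_G0 (rsub_le fun c => x_mem_XS _ (Set.mem_univ _) c)
    rw [← cj_cj, cj_of_norm (inv_mem hg.2), ← cj_cj] at h1
    refine cj_le_iff_le_inv.1 (h1.trans h2) ?_
    have h3 := conj_mem_cj (g := R.nn f.x (R.sr i) 1) (StRoot.x_mem_UU (x := f.x) (R.pos_sr i) (-c))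
    rw [f.st.nn_conj_self _ one_ne_zero] at h3
    simpa using h3

end Cfsg.Agent.FE
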