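import Mathlib
import Cfsg.Agent.FE.NU

set_option autoImplicit false
set_option linter.unusedSectionVars false

namespace Cfsg.Agent.FE

open Cfsg Cfsg.Agent.GT Cfsg.Agent.Loc.Mss Cfsg.Agent.StdB Cfsg.Agent.Chev Subgroup
open scoped commutatorElement

variable {ι Nd M : Type} [AddCommGroup M] [Fintype Nd] [Finite ι] {R : StRoot ι Nd M} {T : Top R}
  {K G : Type*} [Field K] [Finite K] [CharP K 2] [Group G] [Finite G] (f : Fe T K G)

theorem Fe.main_aux (sw : f.SW) {E : Subgroup G} {τ : G} (m : MX f.Γ f.X f.H f.S E τ) (hE : E ≤ f.U) {g : ι}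
    (hg : R.Pos g) (hgE : ¬ rsub f.x g ≤ E) (hI : Ik R f.x (hgt R g) ≤ E) : False := by
  have hU : ∀ b, f.x g b ∈ f.S ⊓ f.X := fun b =>
    mem_inf.2 ⟨f.U_le_S (x_mem_XS f.x (S := {r | R.Pos r}) hg b), f.x_mem g b⟩
  have tr := f.tr_mem m le_rfl le_rfl m.τ_not hI hU
    (fun u hu b => T.cm_mem_Ik f.model.toIsAB hu hg b)
    (fun u hu b => by rw [← T.ht_π g]; exact T.cm_mem_Ik f.model.toIsAB hu (T.pos_π.2 hg) b)
  have h1 : f.x g 1 ≠ 1 := (f.lg_x g one_ne_zero).1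
  have hx : f.x g 1 ∉ E := fun h => hgE (f.rg_le m le_rfl hE (fun Y hY _ _ _ _ => Fe.Rg.le_X hY) (f.rg_rsub g)
    (x_mem_rsub f.x g 1) h1 h)
  by_cases hπ : T.π g = g
  · have := (tr f.ω).2
    rw [hπ, ← f.add, f.ω_add] at this
    exact hx this
  · obtain ⟨hN, ha⟩ := tr 1
    rw [map_one] at ha
    refine m.not_le fun n hn => ?_
    have h2 : n * (f.x g 1 * f.x (T.π g) 1) * n⁻¹ ∈ f.H :=
      f.G0_le_H (f.U_le_G0 (hE (conj_mem_of_norm (mem_inf.1 hn).2 ha)))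
    exact m.uf _ (mem_inf.2 ⟨hU 1, hN⟩) hx n hn (sw g hπ n (mem_inf.1 hn).1 h2)

theorem Fe.main (sw : f.SW) : f.X ≤ f.H := by
  by_contra hne
  have hn : f.Γ ≤ 𝐍[f.X] := by
    have := f.normal
    rw [normalizer_eq_top]
    exact le_top
  obtain ⟨E, τ, m⟩ := exists_mx f.X_le_Γ hn f.t2 f.t_mem_S f.t_not f.t_mem_H (fun g hg => f.idx hg) f.sylS
    (fun g _ h => f.uf g h) (fun h => hne (f.X_le_Γ.trans h))
  have hE : E ≤ f.U := by rw [← f.S_inf]; exact m.le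
  have hex : ∃ r, R.Pos r ∧ ¬ rsub f.x r ≤ E := by
    by_contra hc
    push Not at hc
    have hU : E = f.U := le_antisymm hE (XS_le fun r hr a => hc r hr (x_mem_rsub _ r a))
    exact m.not_le (by rw [hU]; exact f.NU)
  obtain ⟨g, ⟨hg, hgE⟩, hmax⟩ := Set.exists_max_image {r | R.Pos r ∧ ¬ rsub f.x r ≤ E} (hgt R)
    (Set.toFinite _) hex
  refine f.main_aux sw m hE hg hgE (XS_le fun r hr a => ?_)
  by_contra hc
  have hr' : hgt R g < hgt R r := hr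
  have hp : R.Pos r := lt_trans hg hr'
  exact absurd (hmax r ⟨hp, fun h => hc (h (x_mem_rsub _ r a))⟩) (not_le.2 hr')

theorem Fe.sw_of_fix (h : ∀ r, T.π r = r) : f.SW := fun g hg => absurd (h g) hg

end Cfsg.Agent.FE
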