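import Mathlib
import Cfsg.Agent.FE.Root

/-!
# Root calculus in the symplecton
-/

set_option autoImplicit false
set_option linter.unusedSectionVars false

namespace Cfsg.Agent.FE

open Cfsg Cfsg.Agent.GT Cfsg.Agent.Loc.Mss Cfsg.Agent.StdB Cfsg.Agent.Chev Subgroup
open scoped commutatorElement

variable {ι Nd M : Type} [AddCommGroup M] [Fintype Nd] [Finite ι] {R : StRoot ι Nd M} {T : Top R}
  {K G : Type*} [Field K] [Finite K] [CharP K 2] [Group G] [Finite G] (f : Fe T K G)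

namespace Fe

theorem kill_ab : R.IsAB f.x := f.st.toIsAB

theorem kill_zero (r : ι) : f.x r 0 = 1 := (f.kill_ab.add r).zero

theorem kill_commute {S S' : Set ι} (h : ∀ r ∈ S, ∀ s ∈ S', 0 ≤ R.A r s) {a b : G}
    (ha : a ∈ XS f.x S) (hb : b ∈ XS f.x S') : Commute a b := by
  refine XS_induction (P := fun a => Commute a b) (Commute.one_left b) (fun r hr t => ?_)
    (fun _ _ => Commute.mul_left) (fun _ => Commute.inv_left) ha
  exact XS_induction (P := fun b => Commute (f.x r t) b) (Commute.one_right _)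
    (fun s hs u => T.commute f.kill_ab (h r hr s hs) t u) (fun _ _ => Commute.mul_right)
    (fun _ => Commute.inv_right) hb

theorem kill_cases (T : Top R) {δ r : ι} (hδ : R.Pos δ) (hr : R.Pos r) : 0 ≤ R.A δ r ∨ R.A δ r = -1 := by
  have := T.sl.ge (StRoot.Pos.ne_ng hδ hr)
  omega

variable (Y : Sym T)

theorem p_mem : Y.p ∈ T.Zs Y.p ∧ T.π Y.p ∈ T.Zs Y.p ∧ Y.p ≠ T.π Y.p := by
  have h := Y.orth
  have h' : R.A (T.π Y.p) Y.p = 0 := R.A_zero_comm h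
  refine ⟨?_, ?_, fun e => ?_⟩
  · change _ + _ = _
    rw [R.A_self, h']; rfl
  · change _ + _ = _
    rw [R.A_self, h]; rfl
  · rw [← e, R.A_self] at h
    omega

theorem π_mem {r : ι} (h : r ∈ T.Zs Y.p) : T.π r ∈ T.Zs Y.p ∧ Y.lev (T.π r) = Y.lev r := by
  obtain ⟨h1, h2, -⟩ := p_mem Y
  by_cases hm : Y.lev r = Y.m
  · rcases (Y.lev_eq r h).1 hm with e | e
    · rw [hm, e]
      exact ⟨h2, (Y.lev_eq _ h2).2 (Or.inr rfl)⟩
    · rw [hm, e, T.ππ]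
      exact ⟨h1, (Y.lev_eq _ h1).2 (Or.inl rfl)⟩
  · rw [Y.fix r h hm]
    exact ⟨h, rfl⟩

theorem V_le (k : ℕ) : f.V Y k ≤ f.Z8 Y := XS_mono _ fun _ h => h.1

theorem kill_V_mono {k k' : ℕ} (h : k ≤ k') : f.V Y k ≤ f.V Y k' :=
  XS_mono _ fun _ hr => ⟨hr.1, lt_of_lt_of_le hr.2 h⟩

theorem exists_V_eq : ∃ k, f.V Y k = f.Z8 Y := by
  obtain ⟨k, hk⟩ := (Set.finite_range Y.lev).bddAbove
  refine ⟨k + 1, le_antisymm (f.V_le Y _) (XS_mono _ fun r hr => ⟨hr, ?_⟩)⟩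
  exact Nat.lt_succ_of_le (hk ⟨r, rfl⟩)

theorem Z8_le_U : f.Z8 Y ≤ f.U := XS_mono _ fun r hr => Y.pos r hr

theorem Z8_comm {a b : G} (ha : a ∈ f.Z8 Y) (hb : b ∈ f.Z8 Y) : Commute a b :=
  f.kill_commute Y.comm ha hb

theorem Z8_sq {a : G} (ha : a ∈ f.Z8 Y) : a * a = 1 := by
  refine XS_induction_left (P := fun a => a * a = 1) (fun r _ => f.kill_ab.add r) (mul_one _)
    (fun r hr t g hg ih => ?_) ha
  have h := f.Z8_comm Y (x_mem_XS f.x hr t) hg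
  rw [h.symm.mul_mul_mul_comm, T.x_sq f.kill_ab, ih, mul_one]

theorem kill_U_norm (k : ℕ) : f.U ≤ 𝐍[f.V Y k] := by
  refine f.kill_ab.XS_le_normalizer fun r hr s hs _ => ⟨StRoot.Pos.ne_ng hr (Y.pos s hs.1), ?_⟩
  rcases kill_cases T hr (Y.pos s hs.1) with h | h
  · rw [T.sl.mid_eq_empty h]; exact Set.empty_subset _
  · rw [T.mid_eq h, Set.singleton_subset_iff]
    exact ⟨(Y.down r hr s hs.1 h).1, (Y.down r hr s hs.1 h).2.trans hs.2⟩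

theorem norm_V (k : ℕ) : f.S ≤ 𝐍[f.V Y k] := by
  refine sup_le (f.kill_U_norm Y k) ((zpowers_le).2 ?_)
  have h : ∀ u ∈ f.V Y k, f.t * u * f.t⁻¹ ∈ f.V Y k := fun u hu =>
    conj_mem_XS (fun r hr a => by
      rw [f.act]
      exact x_mem_XS f.x (S := Y.Vs k) ⟨(π_mem Y hr.1).1, (π_mem Y hr.1).2 ▸ hr.2⟩ _) hu
  rw [mem_normalizer_iff]
  refine fun u => ⟨h u, fun hu => ?_⟩
  have := h _ hu
  have e : f.t * (f.t * u * f.t⁻¹) * f.t⁻¹ = f.t * f.t * u * (f.t * f.t)⁻¹ := by group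
  rwa [e, f.t2, one_mul, inv_one, mul_one] at this

theorem norm_Z8 : f.S ≤ 𝐍[f.Z8 Y] := by
  obtain ⟨k, hk⟩ := f.exists_V_eq Y
  rw [← hk]
  exact f.norm_V Y k

theorem kill_conj_V {u v : G} (hu : u ∈ f.U) {k : ℕ} (hv : v ∈ f.V Y k) : u * v * u⁻¹ ∈ f.V Y k :=
  (mem_normalizer_iff.1 (f.kill_U_norm Y k hu) v).1 hv

theorem kill_conj_Z8 {u v : G} (hu : u ∈ f.U) (hv : v ∈ f.Z8 Y) : u * v * u⁻¹ ∈ f.Z8 Y :=
  (mem_normalizer_iff.1 (f.norm_Z8 Y (f.U_le_S hu)) v).1 hv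

theorem cm_mem_V {u : G} (hu : u ∈ f.U) {r : ι} (hr : r ∈ T.Zs Y.p) (b : K) :
    u * f.x r b * u⁻¹ * (f.x r b)⁻¹ ∈ f.V Y (Y.lev r) := by
  refine XS_induction_left (P := fun u => u * f.x r b * u⁻¹ * (f.x r b)⁻¹ ∈ f.V Y (Y.lev r))
    (fun r _ => f.kill_ab.add r) (by simpa using one_mem _) (fun δ hδ l g _ ih => ?_) hu
  have e : f.x δ l * g * f.x r b * (f.x δ l * g)⁻¹ * (f.x r b)⁻¹ =
      f.x δ l * (g * f.x r b * g⁻¹ * (f.x r b)⁻¹) * (f.x δ l)⁻¹ * ⁅f.x δ l, f.x r b⁆ := by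
    rw [commutatorElement_def]; group
  rw [e]
  refine mul_mem (f.kill_conj_V Y (StRoot.x_mem_UU hδ l) ih) ?_
  rcases kill_cases T hδ (Y.pos r hr) with h | h
  · rw [commutatorElement_eq_one_iff_commute.2 (T.commute f.kill_ab h l b)]
    exact one_mem _
  · rw [T.comm_eq f.kill_ab h]
    exact x_mem_XS f.x (Y.down δ hδ r hr h) _

theorem kill_eq_zero {S : Set ι} (hS : S ⊆ T.Zs Y.p) {r : ι} (hrS : r ∉ S) {c : K}
    (h : f.x r c ∈ XS f.x S) : c = 0 := by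
  by_cases hr : R.Pos r
  · refine f.model.eq_zero_of_mem_XS (f := R.ht) (fun a ha b hb => ?_) (fun a ha => Y.pos a (hS ha))
      hr hrS h
    rw [T.sl.mid_eq_empty (Y.comm a (hS ha) b (hS hb))]
    exact Set.empty_subset _
  · exact f.model.eq_zero_of_mem_UU hr (f.Z8_le_U Y (XS_mono _ hS h))

theorem mem_of_x_mem_V {r : ι} {c : K} (hc : c ≠ 0) {k : ℕ} (h : f.x r c ∈ f.V Y k) : r ∈ Y.Vs k := by
  by_contra hr
  exact hc (f.kill_eq_zero Y (fun _ h => h.1) hr h)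

theorem mem_of_x_mem_Z8 {r : ι} {c : K} (hc : c ≠ 0) (h : f.x r c ∈ f.Z8 Y) : r ∈ T.Zs Y.p := by
  by_contra hr
  exact hc (f.kill_eq_zero Y subset_rfl hr h)

theorem kill_ins {S : Set ι} (hS : S ⊆ T.Zs Y.p) {r : ι} (hr : r ∈ T.Zs Y.p) {β : G}
    (h : β ∈ XS f.x (insert r S)) : ∃ c, ∃ v ∈ XS f.x S, β = f.x r c * v := by
  refine XS_induction_left (P := fun β => ∃ c, ∃ v ∈ XS f.x S, β = f.x r c * v)
    (fun r _ => f.kill_ab.add r) ⟨0, 1, one_mem _, by rw [f.kill_zero, mul_one]⟩ ?_ h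
  rintro s (rfl | hs) t g - ⟨c, v, hv, rfl⟩
  · exact ⟨t + c, v, hv, by rw [f.add, mul_assoc]⟩
  · refine ⟨c, f.x s t * v, mul_mem (x_mem_XS f.x hs t) hv, ?_⟩
    rw [← mul_assoc, ← mul_assoc, (T.commute f.kill_ab (Y.comm s (hS hs) r hr) t c).eq]

/-- the coordinates at `p` and `π p` -/
theorem exists_mid {β : G} (h : β ∈ f.V Y (Y.m + 1)) :
    ∃ b b', ∃ v ∈ f.V Y Y.m, β = f.x Y.p b * f.x (T.π Y.p) b' * v := by
  obtain ⟨h1, h2, -⟩ := p_mem Y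
  have hs : Y.Vs (Y.m + 1) ⊆ insert Y.p (insert (T.π Y.p) (Y.Vs Y.m)) := by
    intro r hr
    rcases (Nat.lt_succ_iff.1 hr.2).lt_or_eq with e | e
    · exact Or.inr (Or.inr ⟨hr.1, e⟩)
    · rcases (Y.lev_eq r hr.1).1 e with e | e
      · exact Or.inl e
      · exact Or.inr (Or.inl e)
  obtain ⟨b, v, hv, rfl⟩ := f.kill_ins Y (Set.insert_subset h2 fun _ h => h.1) h1 (XS_mono _ hs h)
  obtain ⟨b', v', hv', rfl⟩ := f.kill_ins Y (fun _ h => h.1) h2 hv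
  exact ⟨b, b', v', hv', (mul_assoc _ _ _).symm⟩

theorem mid_zero {b b' : K} (h : f.x Y.p b * f.x (T.π Y.p) b' ∈ f.V Y Y.m) : b = 0 ∧ b' = 0 := by
  obtain ⟨h1, h2, h3⟩ := p_mem Y
  have l1 := (Y.lev_eq _ h1).2 (Or.inl rfl)
  have l2 := (Y.lev_eq _ h2).2 (Or.inr rfl)
  have hb : b = 0 := by
    refine f.kill_eq_zero Y (S := insert (T.π Y.p) (Y.Vs Y.m)) (r := Y.p)
      (Set.insert_subset h2 fun _ h => h.1) ?_ ?_
    · rintro (e | e)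
      · exact h3 e
      · exact lt_irrefl _ (l1 ▸ e.2)
    · exact (Subgroup.mul_mem_cancel_right _ (x_mem_XS f.x (Set.mem_insert _ _) b')).1
        (XS_mono _ (Set.subset_insert _ _) h)
  rw [hb, f.kill_zero, one_mul] at h
  exact ⟨hb, f.kill_eq_zero Y (fun _ h => h.1) (fun e => lt_irrefl _ (l2 ▸ e.2)) h⟩

/-- the leading coordinate -/
theorem exists_lead {β : G} {k : ℕ} (hk : k ≠ Y.m) (h : β ∈ f.V Y (k + 1)) (h' : β ∉ f.V Y k) :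
    ∃ r ∈ T.Zs Y.p, Y.lev r = k ∧ ∃ c, c ≠ 0 ∧ ∃ v ∈ f.V Y k, β = f.x r c * v := by
  by_cases hr : ∃ r ∈ T.Zs Y.p, Y.lev r = k
  · obtain ⟨r, hr, e⟩ := hr
    have hs : Y.Vs (k + 1) ⊆ insert r (Y.Vs k) := by
      intro s hs
      rcases (Nat.lt_succ_iff.1 hs.2).lt_or_eq with e' | e'
      · exact Or.inr ⟨hs.1, e'⟩
      · exact Or.inl (Y.lev_inj s hs.1 r hr (e'.trans e.symm) (e' ▸ hk))
    obtain ⟨c, v, hv, rfl⟩ := f.kill_ins Y (fun _ h => h.1) hr (XS_mono _ hs h)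
    refine ⟨r, hr, e, c, fun hc => h' ?_, v, hv, rfl⟩
    rwa [hc, f.kill_zero, one_mul]
  · refine absurd (XS_mono _ (fun s hs => ?_) h) h'
    rcases (Nat.lt_succ_iff.1 hs.2).lt_or_eq with e' | e'
    · exact ⟨hs.1, e'⟩
    · exact absurd ⟨s, hs.1, e'⟩ hr

theorem kill_aux {r : ι} (hr : r ∈ T.Zs Y.p) {c : K} (hc : c ≠ 0) (A : Set ι) (hA : A.Finite) :
    (∀ s ∈ A, s ∈ Y.Vs (Y.lev r) ∧ R.A r s = 1) →
    ∀ v ∈ XS f.x (A ∪ {s | s ∈ Y.Vs (Y.lev r) ∧ R.A r s = 0}),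
    ∃ u ∈ f.U, ∃ γ ∈ XS f.x {s | s ∈ Y.Vs (Y.lev r) ∧ R.A r s = 0},
      u * (f.x r c * v) * u⁻¹ = f.x r c * γ := by
  induction A, hA using Set.Finite.induction_on with
  | empty =>
    intro _ v hv
    rw [Set.empty_union] at hv
    exact ⟨1, one_mem _, v, hv, by group⟩
  | @insert s A _ _ ih =>
    intro hA v hv
    have hs := hA s (Set.mem_insert _ _)
    have hA' : ∀ s ∈ A, s ∈ Y.Vs (Y.lev r) ∧ R.A r s = 1 := fun s h => hA s (Set.mem_insert_of_mem _ h)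
    have hsub : ∀ s' ∈ A ∪ {s | s ∈ Y.Vs (Y.lev r) ∧ R.A r s = 0}, s' ∈ Y.Vs (Y.lev r) := by
      rintro s' (h | h)
      · exact (hA' s' h).1
      · exact h.1
    rw [Set.insert_union] at hv
    obtain ⟨d, v', hv', rfl⟩ := f.kill_ins Y (fun s' h => (hsub s' h).1) hs.1.1 hv
    obtain ⟨δ, hδ, h1, h2, h3⟩ := Y.kill r hr s hs.1.1 hs.1.2 hs.2
    have e1 := T.conj_eq f.kill_ab h1 (d / c) c
    rw [h2, div_mul_cancel₀ d hc] at e1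
    have e2 : Commute (f.x δ (d / c)) (f.x s d) := by
      refine T.commute f.kill_ab ?_ _ _
      rw [← h2, R.A_refl_right, h1]; norm_num
    have e3 : f.x δ (d / c) * v' * (f.x δ (d / c))⁻¹ ∈
        XS f.x (A ∪ {s | s ∈ Y.Vs (Y.lev r) ∧ R.A r s = 0}) := by
      refine conj_mem_XS (fun s' hs' e => ?_) hv'
      have h4 := hsub s' hs'
      rcases kill_cases T hδ (Y.pos s' h4.1) with h | h
      · rw [(T.commute f.kill_ab h _ e).eq, mul_inv_cancel_right]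
        exact x_mem_XS f.x hs' e
      · rw [T.conj_eq f.kill_ab h]
        refine mul_mem (x_mem_XS f.x hs' e) (x_mem_XS f.x (Or.inr ⟨⟨(Y.down δ hδ s' h4.1 h).1,
          (Y.down δ hδ s' h4.1 h).2.trans h4.2⟩, h3 s' h4.1 (fun e => ?_) h⟩) _)
        exact lt_irrefl _ (e ▸ h4.2)
    obtain ⟨u, hu, γ, hγ, e⟩ := ih hA' _ e3
    refine ⟨u * f.x δ (d / c), mul_mem hu (StRoot.x_mem_UU hδ _), γ, hγ, ?_⟩
    rw [← e]
    have e4 : f.x δ (d / c) * (f.x r c * (f.x s d * v')) * (f.x δ (d / c))⁻¹ =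
        (f.x δ (d / c) * f.x r c * (f.x δ (d / c))⁻¹) * (f.x δ (d / c) * f.x s d * (f.x δ (d / c))⁻¹) *
          (f.x δ (d / c) * v' * (f.x δ (d / c))⁻¹) := by group
    rw [e1, e2.eq, mul_inv_cancel_right, mul_assoc (f.x r c), T.x_sq f.kill_ab, mul_one] at e4
    rw [← e4]
    group

theorem kill {r : ι} (hr : r ∈ T.Zs Y.p) {c : K} (hc : c ≠ 0) {v : G} (hv : v ∈ f.V Y (Y.lev r)) :
    ∃ u ∈ f.U, ∃ γ ∈ XS f.x {s | s ∈ Y.Vs (Y.lev r) ∧ R.A r s = 0},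
      u * (f.x r c * v) * u⁻¹ = f.x r c * γ := by
  refine f.kill_aux Y hr hc {s | s ∈ Y.Vs (Y.lev r) ∧ R.A r s = 1} (Set.toFinite _) (fun s h => h) v
    (XS_mono _ (fun s hs => ?_) hv)
  have h1 := Y.comm r hr s hs.1
  have h2 := T.sl r s fun e => lt_irrefl _ (e ▸ hs.2)
  rcases h1.lt_or_eq with h | h
  · exact Or.inl ⟨hs, by omega⟩
  · exact Or.inr ⟨hs, h.symm⟩

theorem kill_le {r : ι} (hr : r ∈ T.Zs Y.p) (hm : Y.lev r ≤ Y.m) {c : K} (hc : c ≠ 0) {v : G}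
    (hv : v ∈ f.V Y (Y.lev r)) : ∃ u ∈ f.U, f.x r c * v = u * f.x r c * u⁻¹ := by
  obtain ⟨u, hu, γ, hγ, e⟩ := f.kill Y hr hc hv
  have h : {s | s ∈ Y.Vs (Y.lev r) ∧ R.A r s = 0} = ∅ := by
    refine Set.eq_empty_of_forall_notMem fun s hs => ?_
    have h1 := Y.dual r hr s hs.1.1 hs.2
    have h2 := hs.1.2
    omega
  rw [h, XS_empty, mem_bot] at hγ
  rw [hγ, mul_one] at e
  refine ⟨u⁻¹, inv_mem hu, ?_⟩
  conv_rhs => rw [← e]
  group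

theorem kill_gt {β : G} (h : β ∈ f.Z8 Y) (h' : β ∉ f.V Y (Y.m + 1)) :
    ∃ r ∈ T.Zs Y.p, ∃ c, c ≠ 0 ∧ ∃ u ∈ f.U, ∃ v ∈ f.V Y Y.m, β * v = u * f.x r c * u⁻¹ := by
  classical
  have hex : ∃ k, β ∈ f.V Y (k + 1) := by
    obtain ⟨k, hk⟩ := f.exists_V_eq Y
    exact ⟨k, f.kill_V_mono Y (Nat.le_succ k) (hk ▸ h)⟩
  have h1 := Nat.find_spec hex
  have h2 : Y.m < Nat.find hex := by
    by_contra hc
    exact h' (f.kill_V_mono Y (by omega) h1)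
  have h3 : β ∉ f.V Y (Nat.find hex) := by
    have := Nat.find_min hex (m := Nat.find hex - 1) (by omega)
    rwa [Nat.sub_add_cancel (by omega)] at this
  obtain ⟨r, hr, e, c, hc, v, hv, rfl⟩ := f.exists_lead Y h2.ne' h1 h3
  obtain ⟨u, hu, γ, hγ, e'⟩ := f.kill Y hr hc (v := v) (by rw [e]; exact hv)
  have h4 : γ ∈ f.V Y Y.m := by
    refine XS_mono _ (fun s hs => ?_) hγ
    have := Y.dual r hr s hs.1.1 hs.2
    exact ⟨hs.1.1, by omega⟩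
  refine ⟨r, hr, c, hc, u⁻¹, inv_mem hu, u⁻¹ * γ⁻¹ * u⁻¹⁻¹, f.kill_conj_V Y (inv_mem hu) (inv_mem h4), ?_⟩
  have : f.x r c * v = u⁻¹ * (f.x r c * γ) * u := by rw [← e']; group
  rw [this]
  group

theorem kill_sc {μ : K} (hμ : μ ≠ 0) (r : ι) (c : K) :
    f.sc Y μ * f.x r c * (f.sc Y μ)⁻¹ = f.x r (μ ^ (R.A Y.p r + R.A (T.π Y.p) r) * c) := by
  rw [zpow_add₀ hμ, mul_assoc (μ ^ _), ← f.st.hh_conj Y.p r hμ, ← f.st.hh_conj (T.π Y.p) r hμ]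
  unfold sc
  group

theorem sc_x {μ : K} (hμ : μ ≠ 0) {r : ι} (hr : r ∈ T.Zs Y.p) (c : K) :
    f.sc Y μ * f.x r c * (f.sc Y μ)⁻¹ = f.x r (μ ^ 2 * c) := by
  have h : R.A Y.p r + R.A (T.π Y.p) r = 2 := hr
  rw [f.kill_sc Y hμ, h, zpow_ofNat]

theorem kill_sc_mem {μ : K} (hμ : μ ≠ 0) : f.sc Y μ ∈ R.HH f.x :=
  mul_mem (StRoot.hh_mem_HH _ hμ) (StRoot.hh_mem_HH _ hμ)

theorem sc_norm_V {μ : K} (hμ : μ ≠ 0) (k : ℕ) : f.sc Y μ ∈ 𝐍[f.V Y k] :=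
  f.st.HH_le_normalizer _ (f.kill_sc_mem Y hμ)

theorem kill_sc_root {μ : K} (hμ : μ ≠ 0) {δ : ι} (hδ : R.Pos δ) (l : K) :
    Commute (f.x δ l) (f.sc Y μ) ∨ ∀ b ∈ f.Z8 Y, Commute (f.x δ l) b := by
  by_cases h0 : R.A Y.p δ + R.A (T.π Y.p) δ = 0
  · have e := f.kill_sc Y hμ δ l
    rw [h0, zpow_zero, one_mul, mul_inv_eq_iff_eq_mul] at e
    exact Or.inl e.symm
  · refine Or.inr fun b hb => ?_
    refine f.kill_commute (S := {δ}) (fun r hr s hs => ?_) (x_mem_XS f.x (Set.mem_singleton δ) l) hb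
    rw [Set.mem_singleton_iff.1 hr]
    rcases kill_cases T hδ (Y.pos s hs) with h | h
    · exact h
    · exfalso
      have h1 : R.A Y.p (R.refl δ s) + R.A (T.π Y.p) (R.refl δ s) = 2 := (Y.down δ hδ s hs h).1
      have h2 : R.A Y.p s + R.A (T.π Y.p) s = 2 := hs
      have h3 : ∀ a, R.A a (R.refl δ s) = R.A a s + R.A a δ := fun a => by
        rw [R.A_def, R.wt_refl', h, map_sub, map_zsmul, ← R.A_def, ← R.A_def, smul_eq_mul]
        ring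
      rw [h3, h3] at h1
      omega

theorem sc_conj {μ : K} (hμ : μ ≠ 0) {u β : G} (hu : u ∈ f.U) (hβ : β ∈ f.Z8 Y) :
    f.sc Y μ * (u * β * u⁻¹) * (f.sc Y μ)⁻¹ = u * (f.sc Y μ * β * (f.sc Y μ)⁻¹) * u⁻¹ := by
  have h1 := fun δ (hδ : R.Pos δ) l => f.kill_sc_root Y hμ hδ l
  have h2 : ∀ b ∈ f.Z8 Y, f.sc Y μ * b * (f.sc Y μ)⁻¹ ∈ f.Z8 Y := fun b hb =>
    f.st.conj_mem_XS_of_mem_HH (f.kill_sc_mem Y hμ) hb
  generalize f.sc Y μ = s at h1 h2 ⊢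
  refine XS_induction_left (P := fun u => s * (u * β * u⁻¹) * s⁻¹ = u * (s * β * s⁻¹) * u⁻¹)
    (fun r _ => f.kill_ab.add r) (by group) (fun δ hδ l g hg ih => ?_) hu
  have hβ' := f.kill_conj_Z8 Y hg hβ
  have key : s * (f.x δ l * (g * β * g⁻¹) * (f.x δ l)⁻¹) * s⁻¹ =
      f.x δ l * (s * (g * β * g⁻¹) * s⁻¹) * (f.x δ l)⁻¹ := by
    rcases h1 δ hδ l with h | h
    · calc _ = (s * f.x δ l) * (g * β * g⁻¹) * (s * f.x δ l)⁻¹ := by group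
        _ = _ := by rw [← h.eq]; group
    · rw [(h _ hβ').eq, mul_inv_cancel_right, (h _ (h2 _ hβ')).eq, mul_inv_cancel_right]
  rw [ih] at key
  calc _ = s * (f.x δ l * (g * β * g⁻¹) * (f.x δ l)⁻¹) * s⁻¹ := by group
    _ = _ := by rw [key]; group

end Fe

end Cfsg.Agent.FE
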