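import Mathlib
import Cfsg.Agent.FE.Z3

/-!
# The centralizer of the product of two interchanged root elements normalizes the symplecton
-/

set_option autoImplicit false
set_option linter.unusedSectionVars false

namespace Cfsg.Agent.FE

open Cfsg Cfsg.Agent.GT Cfsg.Agent.Loc.Mss Cfsg.Agent.StdB Cfsg.Agent.Chev Subgroup
open scoped commutatorElement

variable {ι Nd M : Type} [AddCommGroup M] [Fintype Nd] [Finite ι] {R : StRoot ι Nd M} {T : Top R}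
  {K G : Type*} [Field K] [Finite K] [CharP K 2] [Group G] [Finite G] (f : Fe T K G)

namespace Z8A

variable (Y : Sym T)

theorem pg2 {y : G} (h : y * y = 1) : IsPGroup 2 (zpowers y) := pg_iff.2 fun u hu => by
  obtain ⟨k, rfl⟩ := hu
  exact ⟨1, by rw [pow_one, ← zpow_natCast, ← zpow_mul, mul_comm, zpow_mul, zpow_natCast, sq, h, one_zpow]⟩

/-- The elements of the middle layer. -/
def φ (b b' : K) : G := f.x Y.p b * f.x (T.π Y.p) b'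

theorem xp (b : K) : f.x Y.p b ∈ f.Z8 Y := x_mem_XS _ (Fe.p_mem Y).1 b

theorem xq (b : K) : f.x (T.π Y.p) b ∈ f.Z8 Y := x_mem_XS _ (Fe.p_mem Y).2.1 b

theorem lp : Y.lev Y.p = Y.m := (Y.lev_eq _ (Fe.p_mem Y).1).2 (Or.inl rfl)

theorem lq : Y.lev (T.π Y.p) = Y.m := (Y.lev_eq _ (Fe.p_mem Y).2.1).2 (Or.inr rfl)

theorem φ_mem (b b' : K) : φ f Y b b' ∈ f.V Y (Y.m + 1) :=
  mul_mem (x_mem_XS _ (S := Y.Vs _) ⟨(Fe.p_mem Y).1, by rw [lp Y]; omega⟩ _)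
    (x_mem_XS _ (S := Y.Vs _) ⟨(Fe.p_mem Y).2.1, by rw [lq Y]; omega⟩ _)

theorem φ_Z8 (b b' : K) : φ f Y b b' ∈ f.Z8 Y := f.V_le Y _ (φ_mem f Y b b')

theorem x0 (r : ι) : f.x r 0 = 1 := (f.model.add r).zero

theorem φ_mul (b b' c c' : K) : φ f Y b b' * φ f Y c c' = φ f Y (b + c) (b' + c') := by
  rw [φ, φ, φ, f.add, f.add, mul_assoc, mul_assoc, ← mul_assoc (f.x _ b'),
    (f.Z8_comm Y (xq f Y b') (xp f Y c)).eq, mul_assoc]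

theorem φ_mul' (b b' c c' : K) {v : G} (hv : v ∈ f.Z8 Y) (w : G) :
    φ f Y b b' * v * (φ f Y c c' * w) = φ f Y (b + c) (b' + c') * (v * w) := by
  rw [← φ_mul, mul_assoc, ← mul_assoc v, (f.Z8_comm Y hv (φ_Z8 f Y c c')).eq]
  simp only [mul_assoc]

theorem φ_left (b : K) : φ f Y b 0 = f.x Y.p b := by rw [φ, x0, mul_one]

theorem φ_right (b : K) : φ f Y 0 b = f.x (T.π Y.p) b := by rw [φ, x0, one_mul]

theorem V_mono {k l : ℕ} (h : k ≤ l) : f.V Y k ≤ f.V Y l :=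
  XS_mono _ fun _ hr => ⟨hr.1, hr.2.trans_le h⟩

theorem V_zero : f.V Y 0 = ⊥ := eq_bot_iff.2 (XS_le fun _ hr _ => absurd hr.2 (Nat.not_lt_zero _))

theorem Z8_X : f.Z8 Y ≤ f.X := (f.Z8_le_U Y).trans (f.U_le_G0.trans f.G0_le_X)

theorem Z8_H : f.Z8 Y ≤ f.H := (f.Z8_le_U Y).trans (f.U_le_G0.trans f.G0_le_H)

theorem U_Γ : f.U ≤ f.Γ := f.U_le_G0.trans (f.G0_le_X.trans f.X_le_Γ)

theorem a_Z8 : f.a Y ∈ f.Z8 Y := φ_Z8 f Y 1 1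

theorem a_ne : f.a Y ≠ 1 := fun h => one_ne_zero (f.mid_zero Y (b := 1) (b' := 1) (by
  rw [show f.x Y.p 1 * f.x (T.π Y.p) 1 = 1 from h]; exact one_mem _)).1

theorem t_a : f.t ∈ C1 (f.a Y) := mem_C1.2 (by
  rw [← mul_inv_eq_iff_eq_mul, ← conj_mul, f.act, f.act, T.ππ, map_one]
  exact (f.Z8_comm Y (xq f Y 1) (xp f Y 1)).eq)

theorem norm_of_H {c : G} (hc : c ∈ f.Γ ⊓ C1 (f.a Y)) (h : c ∈ f.H) : c ∈ 𝐍[f.Z8 Y] :=
  f.mem_norm_Z8 Y hc (cj_le_of_mem (Z8_H f Y) h)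

/-- the nontrivial elements of the lower half are root elements -/
theorem lg_low {k : ℕ} (hk : k ≤ Y.m) {β : G} (h : β ∈ f.V Y k) (h1 : β ≠ 1) : f.Lg β := by
  induction k with
  | zero => exact absurd (by simpa [V_zero] using h) h1
  | succ k ih =>
    by_cases h' : β ∈ f.V Y k
    · exact ih (by omega) h'
    obtain ⟨r, hr, hl, c, hc, v, hv, rfl⟩ := f.exists_lead Y (by omega) h h'
    obtain ⟨u, hu, e⟩ := f.kill_le Y hr (by omega) hc (hl ▸ hv)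
    exact e ▸ (f.lg_x r hc).conj (U_Γ f hu)

variable {f Y}

/-- The configuration that is shown to be impossible. -/
structure Cf (f : Fe T K G) (Y : Sym T) (a' : G) (S' E : Subgroup G) (τ : G) : Prop where
  m : MX (f.Γ ⊓ C1 a') (f.X ⊓ C1 a') 𝐍[f.Z8 Y] S' E τ
  mem : a' ∈ f.Z8 Y
  syl : Syl 2 S' (f.Γ ⊓ C1 a')
  le : S' ≤ f.S
  nle : ¬ f.Z8 Y ≤ E
  ne : a' ≠ 1
  nlg : ¬ f.Lg a'

namespace Cf

variable {a' τ : G} {S' E : Subgroup G} (c : Cf f Y a' S' E τ)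
include c

theorem Z8_K : f.Z8 Y ≤ f.X ⊓ C1 a' :=
  le_inf (Z8_X f Y) fun _ hy => mem_C1.2 (f.Z8_comm Y hy c.mem).eq

theorem Z8_S : f.Z8 Y ≤ S' ⊓ (f.X ⊓ C1 a') :=
  le_inf (c.syl.le_of_norm (f.syl.pg.to_le (f.Z8_le_U Y))
    (c.Z8_K.trans (inf_le_inf_right _ f.X_le_Γ)) (c.le.trans (f.norm_Z8 Y))) c.Z8_K

theorem E_C : E ≤ C1 a' := fun _ h => (c.m.le h).2.2

theorem E_U : E ≤ f.U := fun _ h => f.S_inf ▸ mem_inf.2 ⟨c.le (c.m.le h).1, (c.m.le h).2.1⟩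

theorem a_mem : a' ∈ E := by
  have hc : ∀ {A : Subgroup G}, A ≤ C1 a' → A ≤ 𝐍[zpowers a'] := fun h => norm_of_cent fun g hg =>
    mem_cent.2 (by rintro _ ⟨k, rfl⟩; exact (Commute.zpow_left (mem_C1.1 (h hg)).symm k).eq)
  refine c.m.max (E ⊔ zpowers a') (pg_sup (f.syl.pg.to_le c.E_U) (pg2 (f.Z8_sq Y c.mem)) (hc c.E_C))
    le_sup_left (sup_le (c.m.le.trans inf_le_right) (zpowers_le.2 (c.Z8_K c.mem)))
    (norm_sup inf_le_right (hc fun _ h => h.1.2)) (mem_sup_right (mem_zpowers _))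

theorem rg {W : Subgroup G} (h : f.Rg W) {y : G} (hy : y ∈ W) (h1 : y ≠ 1) (hE : y ∈ E) : W ≤ E :=
  f.rg_le c.m inf_le_left c.E_U (fun _ hW _ hu h1 hE => le_inf hW.le_X fun _ hw => mem_C1.2
    (mem_cent.1 (hW.cen hu h1 (Z8_X f Y c.mem) (f.Z8_sq Y c.mem) (mem_C1.1 (c.E_C hE)).symm) _ hw))
    h hy h1 hE

theorem rg_x {r : ι} {b : K} (hb : b ≠ 0) (h : f.x r b ∈ E) (d : K) : f.x r d ∈ E :=
  c.rg (f.rg_rsub r) (x_mem_rsub _ r b) (f.lg_x r hb).1 h (x_mem_rsub _ r d)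

theorem tr {r : ι} (hr : r ∈ T.Zs Y.p) (h : f.V Y (Y.lev r) ≤ E) (b : K) :
    f.x r b ∈ 𝐍[E] ∧ f.x r b * f.x (T.π r) (f.σ b) ∈ E :=
  f.tr_mem c.m c.le inf_le_left (fun h => c.m.τ_not ⟨h, (c.syl.le c.m.τ_mem).2⟩) h
    (fun b => c.Z8_S (x_mem_XS _ hr b)) (fun _ hu b => f.cm_mem_V Y hu hr b)
    (fun _ hu b => (Fe.π_mem Y hr).2 ▸ f.cm_mem_V Y hu (Fe.π_mem Y hr).1 b) b

theorem step {k : ℕ} (hk : k ≠ Y.m) (h : f.V Y k ≤ E) : f.V Y (k + 1) ≤ E := XS_le fun r hr b => by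
  rcases (Nat.lt_succ_iff.1 hr.2).lt_or_eq with e | e
  · exact h (x_mem_XS _ (S := Y.Vs _) ⟨hr.1, e⟩ b)
  have := (c.tr hr.1 (e ▸ h) f.ω).2
  rw [Y.fix r hr.1 (e ▸ hk), ← f.add, f.ω_add] at this
  exact c.rg_x one_ne_zero this b

theorem low {k : ℕ} (hk : k ≤ Y.m) : f.V Y k ≤ E := by
  induction k with
  | zero => rw [V_zero]; exact bot_le
  | succ k ih => exact c.step (by omega) (ih (by omega))

theorem Vm : f.V Y Y.m ≤ E := c.low le_rfl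

theorem trp (b : K) : f.x Y.p b ∈ 𝐍[E] ∧ φ f Y b (f.σ b) ∈ E :=
  c.tr (Fe.p_mem Y).1 (lp Y ▸ c.Vm) b

theorem xp_zero {b : K} (h : f.x Y.p b ∈ E) : b = 0 := by
  by_contra hb
  have h1 : f.V Y (Y.m + 1) ≤ E := fun β hβ => by
    obtain ⟨d, d', v, hv, rfl⟩ := f.exists_mid Y hβ
    refine mul_mem (mul_mem (c.rg_x hb h d) ?_) (c.Vm hv)
    have := (c.trp (f.σ d')).2
    rw [φ, f.σσ] at this
    exact (E.mul_mem_cancel_left (c.rg_x hb h _)).1 this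
  have h2 : ∀ k, f.V Y (Y.m + 1 + k) ≤ E := fun k => by
    induction k with
    | zero => exact h1
    | succ k ih => exact c.step (k := Y.m + 1 + k) (by omega) ih
  obtain ⟨k, hk⟩ := f.exists_V_eq Y
  exact c.nle (hk.ge.trans ((V_mono f Y (Nat.le_add_left k _)).trans (h2 k)))

theorem mid {b b' : K} {v : G} (hv : v ∈ f.V Y Y.m) (h : φ f Y b b' * v ∈ E) : b = f.σ b' := by
  have := mul_mem ((E.mul_mem_cancel_right (c.Vm hv)).1 h) (c.trp (f.σ b')).2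
  rw [φ_mul, f.σσ, CharTwo.add_self_eq_zero, φ_left] at this
  exact CharTwo.add_eq_zero.1 (c.xp_zero this)

theorem sc_mem {μ : K} (hμ : μ ≠ 0) {β : G} (h : β ∈ E) (hZ : β ∈ f.Z8 Y) (h' : β ∉ f.V Y (Y.m + 1)) :
    f.sc Y μ * β * (f.sc Y μ)⁻¹ ∈ E := by
  obtain ⟨r, hr, d, hd, u, hu, v, hv, e⟩ := f.kill_gt Y hZ h'
  have h1 := c.rg ((f.rg_rsub r).cj (U_Γ f hu)) (conj_mem_cj (x_mem_rsub _ r d))
    (((f.lg_x r hd).conj (U_Γ f hu)).1) (e ▸ mul_mem h (c.Vm hv)) (conj_mem_cj (x_mem_rsub _ r (μ ^ 2 * d)))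
  rw [← f.sc_x Y hμ hr, ← f.sc_conj Y hμ hu (x_mem_XS _ hr d), ← e, ← conj_mul] at h1
  exact (E.mul_mem_cancel_right (c.Vm (conj_mem_of_norm (f.sc_norm_V Y hμ _) hv))).1 h1

theorem inf_le {β : G} (h : β ∈ E) (hZ : β ∈ f.Z8 Y) : β ∈ f.V Y (Y.m + 1) := by
  by_contra h'
  obtain ⟨μ, hμ⟩ := FiniteField.isSquare_of_char_two (ringChar.eq K 2) f.ω
  have h0 : μ ≠ 0 := fun e => f.ω_ne.1 (by rw [hμ, e, mul_zero])
  have ha : φ f Y 1 1 ∈ E := by simpa using (c.trp 1).2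
  have h1 := c.sc_mem h0 (mul_mem h ha) (mul_mem hZ (φ_Z8 f Y 1 1))
    fun e => h' ((mul_mem_cancel_right (φ_mem f Y 1 1)).1 e)
  rw [← conj_mul, E.mul_mem_cancel_left (c.sc_mem h0 h hZ h'), φ, ← conj_mul,
    f.sc_x Y h0 (Fe.p_mem Y).1, f.sc_x Y h0 (Fe.p_mem Y).2.1, mul_one, sq, ← hμ] at h1
  have h2 := c.mid (b := f.ω) (b' := f.ω) (one_mem _) (by rw [mul_one]; exact h1)
  have h3 := f.ω_add
  rw [← h2, CharTwo.add_self_eq_zero] at h3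
  exact zero_ne_one h3

theorem false : False := by
  obtain ⟨b, b', v, hv, ea⟩ := f.exists_mid Y (c.inf_le c.a_mem c.mem)
  change a' = φ f Y b b' * v at ea
  have hb := c.mid hv (ea ▸ c.a_mem)
  have hb' : b' ≠ 0 := fun e => c.nlg (lg_low f Y le_rfl (by
    rw [ea, hb, e, map_zero, φ_left, x0, one_mul]; exact hv) c.ne)
  have hb0 : b ≠ 0 := hb ▸ (map_ne_zero f.σ).2 hb'
  have hy : ∀ d, f.x Y.p d ∈ S' ⊓ (f.X ⊓ C1 a') ⊓ 𝐍[E] := fun d => ⟨c.Z8_S (xp f Y d), (c.trp d).1⟩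
  have hsq : ∀ d, f.x Y.p d * f.x Y.p d ∈ E := fun d => by
    rw [f.Z8_sq Y (xp f Y d)]; exact one_mem _
  obtain ⟨d, ⟨⟨⟨hdX, hdC⟩, hdN⟩, -⟩, hd⟩ := c.m.conj _ (hy b) _ (hy (b * f.ω))
    (fun h => hb0 (c.xp_zero h)) (fun h => mul_ne_zero hb0 f.ω_ne.1 (c.xp_zero h)) (hsq _) (hsq _)
  have hs := conj_mem_of_norm hdN (xp f Y b)
  have hx : f.x Y.p (b * f.ω) ∈ f.V Y (Y.m + 1) := φ_left f Y _ ▸ φ_mem f Y _ 0
  obtain ⟨e, e', w, hw, es⟩ := f.exists_mid Y ((mul_mem_cancel_right (inv_mem hx)).1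
    (c.inf_le hd (mul_mem hs (inv_mem (xp f Y _)))))
  change _ = φ f Y e e' * w at es
  have l1 : f.Lg (φ f Y e e' * w) := es ▸ (f.lg_x _ hb0).conj (f.X_le_Γ hdX)
  have l2 : f.Lg (φ f Y (e + b) (e' + b') * (w * v)) := by
    obtain ⟨u, hu, eu⟩ := f.kill_le Y (Fe.p_mem Y).2.1 (lq Y).le hb' (lq Y ▸ hv)
    have := ((f.lg_x (T.π Y.p) hb').conj (U_Γ f hu)).conj (f.X_le_Γ hdX)
    rw [← eu, ← φ_right, ← CharTwo.add_self_eq_zero b, ← zero_add b', ← φ_mul, mul_assoc (φ f Y b 0),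
      ← ea, φ_left, ← conj_mul, es, mem_C1.1 hdC, mul_inv_cancel_right, ea,
      φ_mul' f Y _ _ _ _ (f.V_le Y _ hw)] at this
    exact this
  rw [es, inv_eq_of_mul_eq_one_right (f.Z8_sq Y (xp f Y _)), ← φ_left, ← mul_one (φ f Y _ 0),
    φ_mul' f Y _ _ _ _ (f.V_le Y _ hw), add_zero] at hd
  have h3 := c.mid (mul_mem hw (one_mem _)) hd
  refine f.ω_ne.2 (mul_left_cancel₀ hb0 ?_)
  rw [mul_one]
  rcases f.lg_mid Y hw l1 with rfl | rfl <;> rcases f.lg_mid Y (mul_mem hw hv) l2 with h | h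
  · exact absurd (by simpa using h) hb0
  · rw [CharTwo.add_eq_zero.1 h, ← hb, zero_add] at h3
    exact h3
  · rw [CharTwo.add_eq_zero.1 h, map_zero] at h3
    exact (CharTwo.add_eq_zero.1 h3).symm
  · exact absurd (by simpa using h) hb'

end Cf

end Z8A

open Z8A

theorem Fe.cen_a (Y : Sym T) : f.Γ ⊓ C1 (f.a Y) ≤ 𝐍[f.Z8 Y] := by
  by_contra hne
  obtain ⟨P, htP, hP⟩ := Syl.exists_ge (pg2 f.t2) (zpowers_le.2 (mem_inf.2 ⟨f.t_mem_Γ, t_a f Y⟩))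
  have ht := zpowers_le.1 htP
  have hPH := f.two_le_H hP.pg ht
  obtain ⟨h, hh, hS⟩ := (f.sylS.mono (K := f.Γ ⊓ f.H ⊓ 𝐍[f.Z8 Y])
    (le_inf (le_inf f.sylS.le f.S_le_H) (f.norm_Z8 Y)) (inf_le_left.trans inf_le_left)).conj_le hP.pg
    fun g hg => ⟨⟨(hP.le hg).1, hPH hg⟩, norm_of_H f Y (hP.le hg) (hPH hg)⟩
  obtain ⟨hΓ, hH, hN⟩ : h ∈ f.Γ ∧ h ∈ f.H ∧ h ∈ 𝐍[f.Z8 Y] := ⟨hh.1.1, hh.1.2, hh.2⟩
  have hS' := hP.cj h
  rw [cj_inf, cj_of_mem hΓ, Cfg.cj_C1] at hS'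
  set a' := h * f.a Y * h⁻¹ with ha'
  have back : ∀ g ∈ f.Γ ⊓ C1 a', h⁻¹ * g * h ∈ f.Γ ⊓ C1 (f.a Y) := fun g hg =>
    mem_inf.2 ⟨mul_mem (mul_mem (inv_mem hΓ) hg.1) hΓ, mem_cj.1 (by rw [Cfg.cj_C1]; exact hg.2)⟩
  have back' : ∀ g, h⁻¹ * g * h ∈ 𝐍[f.Z8 Y] → g ∈ 𝐍[f.Z8 Y] := fun g hg =>
    (mul_mem_cancel_left (inv_mem hN)).1 ((mul_mem_cancel_right hN).1 hg)
  have ht' : h * f.t * h⁻¹ ∈ cj(h, P) := conj_mem_cj ht
  have t2 : h * f.t * h⁻¹ * (h * f.t * h⁻¹) = 1 := by rw [conj_mul, f.t2, mul_one, mul_inv_cancel]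
  have htX : h * f.t * h⁻¹ ∉ f.X := fun e => f.t_not (by simpa [mul_assoc] using f.normal.conj_mem _ e h⁻¹)
  have := f.normal
  obtain ⟨E, τ, m⟩ := exists_mx (Γ := f.Γ ⊓ C1 a') (K := f.X ⊓ C1 a') (H := 𝐍[f.Z8 Y])
    (inf_le_inf_right _ f.X_le_Γ) (norm_inf (norm_normal _ _) (norm_of_le inf_le_right)) t2 ht'
    (fun e => htX e.1) (f.norm_Z8 Y (hS ht')) (fun g hg => (f.idx hg.1).imp (fun e => ⟨e, hg.2⟩)
      fun e => mem_inf.2 ⟨by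
        have h1 := f.normal.conj_mem _ ((f.idx (hS'.le ht').1).resolve_left htX) f.t
        have h2 := mul_mem e h1
        rwa [mul_assoc f.t, mul_inv_cancel_right, mul_assoc g, ← mul_assoc f.t f.t, f.t2,
          one_mul] at h2, mul_mem hg.2 (hS'.le ht').2⟩)
    hS' (fun g hg e => by
      obtain ⟨k, hk', hle⟩ := (hS'.mono (K := f.Γ ⊓ C1 a' ⊓ 𝐍[f.Z8 Y])
        (le_inf hS'.le (hS.trans (f.norm_Z8 Y))) inf_le_left).conj_le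
        (pg2 (y := g * (h * f.t * h⁻¹) * g⁻¹) (by rw [conj_mul, t2, mul_one, mul_inv_cancel]))
        (zpowers_le.2 (mem_inf.2 ⟨mul_mem (mul_mem hg (hS'.le ht')) (inv_mem hg), e⟩))
      obtain ⟨hk, hkN⟩ := mem_inf.1 hk'
      have h1 := f.uf (k * g * h) (by
        have := f.S_le_H (hS (hle (conj_mem_cj (mem_zpowers _))))
        simpa only [mul_inv_rev, mul_assoc] using this)
      exact (mul_mem_cancel_left hkN).1 (back' _ (norm_of_H f Y (back _ (mul_mem hk hg))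
        (by rw [mul_assoc]; exact mul_mem (inv_mem hH) h1))))
    (fun e => hne fun g hg => (mul_mem_cancel_left hN).1 ((mul_mem_cancel_right (inv_mem hN)).1
      (e (mem_inf.2 ⟨mul_mem (mul_mem hΓ hg.1) (inv_mem hΓ),
        Cfg.cj_C1 h (f.a Y) ▸ conj_mem_cj hg.2⟩))))
  refine Cf.false (f := f) (Y := Y) ⟨m, conj_mem_of_norm hN (a_Z8 f Y), hS', hS, fun e => m.not_le
    fun n hn => back' n (f.mem_norm_Z8 Y (back n hn.1) ?_), by simpa [ha'] using a_ne f Y,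
    fun e => f.not_lg_a Y (by simpa [ha', mul_assoc] using e.conj (inv_mem hΓ))⟩
  rw [← cj_cj, ← cj_cj, cj_of_norm hN]
  exact cj_le_of_mem ((cj_le_of_norm e hn.2).trans fun y hy => f.S_le_H (hS (m.le hy).1)) (inv_mem hH)

theorem Fe.sw_of_sym (Y : Sym T) : f.SW := fun g hg n hn h => by
  obtain ⟨L, rfl⟩ := T.trans g
  obtain ⟨d, hd⟩ := (R.wd L).surjective (T.π (R.wd L T.r0))
  obtain ⟨L', h1, h2⟩ := Y.orb d (by rw [← (R.isAut_wd L).A, hd]; exact Y.sw0 _ hg)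
  have hw : ∀ L, R.nw f.x L ∈ f.Γ := fun L =>
    f.X_le_Γ (f.G0_le_X (StRoot.NN_le_XS_univ (StRoot.nw_mem_NN L)))
  set n' := n * R.nw f.x L * (R.nw f.x L')⁻¹ with hn'
  have hΓ : n' ∈ f.Γ := mul_mem (mul_mem hn (hw L)) (inv_mem (hw L'))
  have e : ∀ r, n' * f.x (R.wd L' r) 1 * n'⁻¹ = n * f.x (R.wd L r) 1 * n⁻¹ := fun r => by
    rw [← T.nw_conj f.st, ← T.nw_conj f.st, hn']; group
  have ea : n' * f.a Y * n'⁻¹ ∈ f.H := by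
    rw [← conj_mul, ← h2, ← h1, e, e, hd, conj_mul]; exact h
  obtain ⟨k, hk', hk⟩ := f.fus ⟨Z8_H f Y (a_Z8 f Y), Z8_X f Y (a_Z8 f Y)⟩
    (f.Z8_sq Y (a_Z8 f Y)) hΓ ea
  obtain ⟨hkH, hkΓ⟩ := mem_inf.1 hk'
  have hc := f.cen_a Y (x := k⁻¹ * n') (mem_inf.2 ⟨mul_mem (inv_mem hkΓ) hΓ, mem_C1.2 (by
    rw [mul_assoc, ← eq_mul_inv_iff_mul_eq.1 hk]; group)⟩)
  have := mul_mem (mul_mem hkH (Z8_H f Y (conj_mem_of_norm hc (xp f Y 1)))) (inv_mem hkH)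
  rw [← e, h1]
  simpa only [mul_inv_rev, inv_inv, mul_assoc, mul_inv_cancel_left, mul_inv_cancel, mul_one] using this

end Cfsg.Agent.FE
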